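import Groth.Agent.L23.UHPush
import Groth.Agent.L23.RedInd
import Groth.Agent.L23.AffineMor
import Groth.Agent.L09.ElemSq.Basic
import Mathlib.AlgebraicGeometry.Morphisms.ClosedImmersion

/-!
# Limits of closed immersions of sheaves
-/

universe u

open CategoryTheory CategoryTheory.Limits AlgebraicGeometry Opposite AlgSp

set_option autoImplicit false
set_option linter.style.haveILetI false
set_option backward.isDefEq.respectTransparency false
set_option backward.isDefEq.respectTransparency.types false

noncomputable section

namespace Groth.L09.LimClosed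

open Groth.L23

variable {S : Scheme.{u}}

/-- Maps of schemes over a base lift along closed immersions containing their kernel. -/
theorem exists_lift_closed {A B W : Over S} (j : A ⟶ W) [IsClosedImmersion j.left] (g : B ⟶ W)
    (h : j.left.ker ≤ g.left.ker) : ∃ l : B ⟶ A, l ≫ j = g := by
  let l := IsClosedImmersion.lift j.left g.left h
  have hl : l ≫ j.left = g.left := IsClosedImmersion.lift_fac _ _ _
  exact ⟨Over.homMk l (by rw [← Over.w j, reassoc_of% hl, Over.w g]), Over.OverMorphism.ext hl⟩

theorem closedImmersion_lim {I : Type u} [SmallCategory I] {DX DY : I ⥤ Sp S}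
    (τ : DX ⟶ DY) (hτ : ∀ i, RepWith @IsClosedImmersion (τ.app i))
    {cX : Cone DX} (hcX : IsLimit cX) {cY : Cone DY} (hcY : IsLimit cY)
    (g : cX.pt ⟶ cY.pt) (hg : ∀ i, g ≫ cY.π.app i = cX.π.app i ≫ τ.app i) :
    RepWith @IsClosedImmersion g := by
  have key : ∀ (T : Over S) (y : (yon S).obj T ⟶ cY.pt), ∃ (W : Over S) (i : W ⟶ T) (fst : (yon S).obj W ⟶ cX.pt),
      IsPullback fst ((yon S).map i) g y ∧ IsClosedImmersion i.left := by
    intro T y
    let P : I → Over S := fun i => (hτ i).rep.pullback (y ≫ cY.π.app i)
    let p : ∀ i, P i ⟶ T := fun i => (hτ i).rep.snd _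
    let a : ∀ i, (yon S).obj (P i) ⟶ DX.obj i := fun i => (hτ i).rep.fst _
    have hsq : ∀ i, IsPullback (a i) ((yon S).map (p i)) (τ.app i) (y ≫ cY.π.app i) :=
      fun i => (hτ i).rep.isPullback _
    haveI hp : ∀ i, IsClosedImmersion (p i).left := fun i => (hτ i).property_snd _
    haveI hm : ∀ i, Mono (τ.app i) := fun i => Groth.L23.mono_of_closedImmersion (hτ i)
    let J : T.left.IdealSheafData := ⨆ i, (p i).left.ker
    let W : Over S := Over.mk (J.subschemeι ≫ T.hom)
    let ι : W ⟶ T := Over.homMk J.subschemeι rfl
    have hker : ι.left.ker = J := J.ker_subschemeι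
    choose l hl using fun i => exists_lift_closed (p i) ι (by rw [hker]; exact le_iSup (fun i => (p i).left.ker) i)
    let x : ∀ i, (yon S).obj W ⟶ DX.obj i := fun i => (yon S).map (l i) ≫ a i
    have hx : ∀ i, x i ≫ τ.app i = (yon S).map ι ≫ y ≫ cY.π.app i := fun i => by
      show ((yon S).map (l i) ≫ a i) ≫ _ = _
      rw [Category.assoc, (hsq i).w, ← Category.assoc, ← Functor.map_comp, hl]
    let c : Cone DX :=
      { pt := (yon S).obj W
        π :=
          { app := x
            naturality := fun i j φ => by
              simp only [Functor.const_obj_obj, Functor.const_obj_map, Category.id_comp]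
              rw [← cancel_mono (τ.app j), hx, Category.assoc, τ.naturality, reassoc_of% (hx i), cY.w] } }
    let fst : (yon S).obj W ⟶ cX.pt := hcX.lift c
    have hfst : ∀ i, fst ≫ cX.π.app i = x i := fun i => hcX.fac c i
    haveI : IsClosedImmersion ι.left := inferInstanceAs (IsClosedImmersion J.subschemeι)
    refine ⟨W, ι, fst, Groth.L23.UHPush.isPullback_of_yon (hcY.hom_ext fun i => ?_) ?_ ?_, inferInstance⟩
    · rw [Category.assoc, hg, reassoc_of% (hfst i), hx, Category.assoc]
    · intro Z k k' _ h
      obtain ⟨k, rfl⟩ := (yon S).map_surjective k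
      obtain ⟨k', rfl⟩ := (yon S).map_surjective k'
      rw [← Functor.map_comp, ← Functor.map_comp] at h
      haveI : Mono ι.left := inferInstance
      exact congrArg _ (Over.OverMorphism.ext ((cancel_mono ι.left).1
        (congrArg CommaMorphism.left ((yon S).map_injective h))))
    · intro Z u v huv
      obtain ⟨v, rfl⟩ := (yon S).map_surjective v
      have hfac : ∀ i, ∃ q : Z ⟶ P i, q ≫ p i = v := fun i => by
        obtain ⟨q, hq⟩ := (yon S).map_surjective ((hsq i).lift (u ≫ cX.π.app i) ((yon S).map v)
          (by rw [Category.assoc, ← hg, reassoc_of% huv]))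
        refine ⟨q, (yon S).map_injective ?_⟩
        rw [Functor.map_comp, hq, IsPullback.lift_snd]
      obtain ⟨k, hk⟩ := exists_lift_closed ι v (by
        rw [hker]
        refine iSup_le fun i => ?_
        obtain ⟨q, hq⟩ := hfac i
        rw [← hq]
        exact q.left.le_ker_comp (p i).left)
      refine ⟨(yon S).map k, hcX.hom_ext fun i => ?_, by rw [← Functor.map_comp, hk]⟩
      rw [← cancel_mono (τ.app i), Category.assoc, Category.assoc, reassoc_of% (hfst i), hx, Category.assoc,
        ← hg, reassoc_of% huv, ← Category.assoc, ← Functor.map_comp, hk]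
  refine repWith_of_affine g fun Z _ y => ?_
  obtain ⟨W, i, fst, sq, h⟩ := key Z y
  exact ⟨W, i, fst, sq, h⟩

end Groth.L09.LimClosed
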